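import Mathlib
import Groth.Prelude.Def_ProEtW

set_option autoImplicit false
universe u

namespace Groth.Agent.H8.EtRetr

open ProEtW

section Prod

variable {A B C : Type u} [CommRing A] [CommRing B] [CommRing C] [Algebra A B] [Algebra A C]

/-- the family `Bool → Type u` with values `B`, `C` -/
def Fam (B C : Type u) : Bool → Type u
  | true => B
  | false => C

instance famCommRing : ∀ b, CommRing (Fam B C b)
  | true => ‹CommRing B›
  | false => ‹CommRing C›

instance famAlgebra : ∀ b, Algebra A (Fam B C b)
  | true => ‹Algebra A B›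
  | false => ‹Algebra A C›

instance famEtale [Algebra.Etale A B] [Algebra.Etale A C] : ∀ b, Algebra.Etale A (Fam B C b)
  | true => ‹Algebra.Etale A B›
  | false => ‹Algebra.Etale A C›

/-- the product as a pi type over `Bool` -/
noncomputable def piEquivProd : (∀ b, Fam B C b) ≃ₐ[A] B × C where
  toFun f := (f true, f false)
  invFun p := fun b => match b with
    | true => p.1
    | false => p.2
  left_inv f := by
    funext b
    cases b <;> rfl
  right_inv p := rfl
  map_mul' f g := rfl
  map_add' f g := rfl
  commutes' a := rfl

theorem etale_prod [Algebra.Etale A B] [Algebra.Etale A C] : Algebra.Etale A (B × C) :=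
  Algebra.Etale.of_equiv (piEquivProd (A := A) (B := B) (C := C))

end Prod

end Groth.Agent.H8.EtRetr

namespace Groth.Agent.H8.EtRetr

open ProEtW

section Cover

variable (A : Type u) [CommRing A] (B : Type u) [CommRing B] [Algebra A B]

/-- The cover trick: if `Spec B ⊔ D(f) → Spec A` is surjective for an étale `A`-algebra `B`, a
retraction of `B × A_f` yields an idempotent `ε` with `1 - ε ∈ (f)` and a multiplicative
`A`-linear map `B → A` sending `1` to `ε`. -/
theorem exists_idempotent_of_cover (h : HasEtaleRetractions A) [Algebra.Etale A B] (f : A)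
    (hcov : ∀ p : PrimeSpectrum A,
      f ∉ p.asIdeal ∨ p ∈ Set.range (PrimeSpectrum.comap (algebraMap A B))) :
    ∃ (ε u : A) (g : B →ₗ[A] A), IsIdempotentElem ε ∧ g 1 = ε ∧
      (∀ x y, g (x * y) = g x * g y) ∧ f * u = 1 - ε := by
  haveI : Algebra.Etale A (Localization.Away f) := Algebra.Etale.of_isLocalizationAway f
  haveI : Algebra.Etale A (B × Localization.Away f) := etale_prod
  haveI : Module.Flat A (B × Localization.Away f) := inferInstance
  have hsurj : Function.Surjective
      (PrimeSpectrum.comap (algebraMap A (B × Localization.Away f))) := by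
    intro p
    rcases hcov p with hf | ⟨q, hq⟩
    · -- p comes from the localization
      have hdisj : Disjoint (Submonoid.powers f : Set A) (p.asIdeal : Set A) := by
        rw [Set.disjoint_left]
        rintro x ⟨n, rfl⟩ hx
        exact hf (p.isPrime.mem_of_pow_mem n hx)
      obtain ⟨q', hq'⟩ : ∃ q' : PrimeSpectrum (Localization.Away f),
          PrimeSpectrum.comap (algebraMap A (Localization.Away f)) q' = p := by
        refine ⟨⟨Ideal.map (algebraMap A (Localization.Away f)) p.asIdeal,
          IsLocalization.isPrime_of_isPrime_disjoint (Submonoid.powers f) _ _ p.isPrime hdisj⟩, ?_⟩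
        ext1
        exact IsLocalization.under_map_of_isPrime_disjoint (Submonoid.powers f) _
          p.isPrime hdisj
      refine ⟨PrimeSpectrum.comap (RingHom.snd B (Localization.Away f)) q', ?_⟩
      rw [← hq']
      ext1
      ext x
      simp only [PrimeSpectrum.comap_asIdeal, Ideal.mem_comap]
      rfl
    · refine ⟨PrimeSpectrum.comap (RingHom.fst B (Localization.Away f)) q, ?_⟩
      rw [← hq]
      ext1
      ext x
      simp only [PrimeSpectrum.comap_asIdeal, Ideal.mem_comap]
      rfl
  haveI : Module.FaithfullyFlat A (B × Localization.Away f) :=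
    Module.FaithfullyFlat.of_comap_surjective hsurj
  obtain ⟨ρ⟩ := h (B × Localization.Away f) inferInstance inferInstance
  refine ⟨ρ (1, 0), ρ (0, IsLocalization.Away.invSelf f),
    ρ.toLinearMap ∘ₗ LinearMap.inl A B (Localization.Away f), ?_, rfl, ?_, ?_⟩
  · show ρ (1, 0) * ρ (1, 0) = ρ (1, 0)
    rw [← map_mul]
    simp
  · intro x y
    show ρ (x * y, 0) = ρ (x, 0) * ρ (y, 0)
    rw [← map_mul]
    simp
  · have h1 : ρ ((1 : B), (0 : Localization.Away f)) + ρ (0, 1) = 1 := by
      rw [← map_add, Prod.mk_add_mk, add_zero, zero_add]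
      exact map_one ρ
    have h2 : f * ρ (0, IsLocalization.Away.invSelf f) = ρ (0, 1) := by
      rw [← smul_eq_mul, ← map_smul]
      congr 1
      ext
      · simp
      · simp only [Algebra.smul_def]
        exact IsLocalization.Away.mul_invSelf f
    rw [h2]
    linear_combination h1

end Cover

end Groth.Agent.H8.EtRetr

namespace Groth.Agent.H8.EtRetr

open ProEtW

section AtMax

variable (A : Type u) [CommRing A] (B : Type u) [CommRing B] [Algebra A B]

theorem isOpen_range_comap_of_etale [Algebra.Etale A B] :
    IsOpen (Set.range (PrimeSpectrum.comap (algebraMap A B))) :=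
  (PrimeSpectrum.isOpenMap_comap_of_hasGoingDown_of_finitePresentation (R := A) (S := B)).isOpen_range

/-- an étale algebra with a point over a maximal ideal maps to the local ring -/
theorem exists_algHom_localization (h : HasEtaleRetractions A) [Algebra.Etale A B]
    (m : Ideal A) [hm : m.IsMaximal]
    (hpt : (⟨m, hm.isPrime⟩ : PrimeSpectrum A) ∈ Set.range (PrimeSpectrum.comap (algebraMap A B))) :
    Nonempty (B →ₐ[A] Localization.AtPrime m) := by
  have hopen := isOpen_range_comap_of_etale A B
  obtain ⟨J, hJ⟩ := (PrimeSpectrum.isClosed_iff_zeroLocus_ideal _).mp hopen.isClosed_compl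
  have hmJ : ¬ J ≤ m := by
    intro hle
    have : (⟨m, hm.isPrime⟩ : PrimeSpectrum A) ∈ PrimeSpectrum.zeroLocus (J : Set A) := by
      rw [PrimeSpectrum.mem_zeroLocus]; exact hle
    rw [← hJ] at this
    exact this hpt
  obtain ⟨j, hjJ, hjm⟩ := SetLike.not_le_iff_exists.mp hmJ
  obtain ⟨a, t, ht, hat⟩ := hm.exists_inv hjm
  -- `a * j + t = 1`
  have hcov : ∀ p : PrimeSpectrum A,
      t ∉ p.asIdeal ∨ p ∈ Set.range (PrimeSpectrum.comap (algebraMap A B)) := by
    intro p
    by_cases htp : t ∈ p.asIdeal
    · right
      by_contra hp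
      have hpJ : p ∈ PrimeSpectrum.zeroLocus (J : Set A) := by rw [← hJ]; exact hp
      rw [PrimeSpectrum.mem_zeroLocus] at hpJ
      have hj : j ∈ p.asIdeal := hpJ hjJ
      have : (1 : A) ∈ p.asIdeal := by
        rw [← hat]
        exact p.asIdeal.add_mem (p.asIdeal.mul_mem_left _ hj) htp
      exact p.isPrime.ne_top ((Ideal.eq_top_iff_one _).mpr this)
    · exact Or.inl htp
  obtain ⟨ε, u, g, hε, hg1, hgmul, hfu⟩ := exists_idempotent_of_cover A B h t hcov
  have hεm : ε ∉ m := by
    intro hεm
    have : (1 : A) ∈ m := by
      have h1 : (1 : A) = t * u + ε := by rw [hfu]; ring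
      rw [h1]
      exact m.add_mem (m.mul_mem_right _ ht) hεm
    exact hm.ne_top ((Ideal.eq_top_iff_one _).mpr this)
  have hε1 : algebraMap A (Localization.AtPrime m) ε = 1 := by
    have hunit : IsUnit (algebraMap A (Localization.AtPrime m) ε) :=
      IsLocalization.map_units (Localization.AtPrime m) (⟨ε, hεm⟩ : m.primeCompl)
    have hidem : algebraMap A (Localization.AtPrime m) ε * algebraMap A (Localization.AtPrime m) ε =
        algebraMap A (Localization.AtPrime m) ε := by
      rw [← map_mul, hε.eq]
    exact hunit.mul_left_cancel (by rw [hidem, mul_one])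
  refine ⟨{ toFun := fun b => algebraMap A (Localization.AtPrime m) (g b)
            map_one' := by rw [hg1, hε1]
            map_mul' := fun x y => by rw [hgmul, map_mul]
            map_zero' := by rw [map_zero, map_zero]
            map_add' := fun x y => by rw [map_add, map_add]
            commutes' := fun a => by
              show algebraMap A (Localization.AtPrime m) (g (algebraMap A B a)) = _
              rw [Algebra.algebraMap_eq_smul_one a, map_smul, hg1, smul_eq_mul, map_mul, hε1,
                mul_one] }⟩

end AtMax

end Groth.Agent.H8.EtRetr
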