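import Mathlib

set_option autoImplicit false
universe u

namespace Groth.Agent.H8.EtRetr

open Polynomial

section Scale

variable {R : Type*} [CommRing R]

theorem eval_derivative_scaleRoots (p : R[X]) (r s : R) :
    eval (s * r) (derivative (scaleRoots p s)) * s =
      s ^ p.natDegree * eval r (derivative p) := by
  rw [derivative_eval, derivative_eval,
    sum_over_range' (scaleRoots p s) (fun n => by simp) (p.natDegree + 1)
      (by rw [natDegree_scaleRoots]; exact Nat.lt_succ_self _),
    sum_over_range' p (fun n => by simp) (p.natDegree + 1) (Nat.lt_succ_self _),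
    Finset.sum_mul, Finset.mul_sum]
  refine Finset.sum_congr rfl fun i hi => ?_
  rw [Finset.mem_range] at hi
  rw [coeff_scaleRoots]
  rcases Nat.eq_zero_or_pos i with rfl | hpos
  · simp
  · have h1 : p.natDegree = (p.natDegree - i) + (i - 1) + 1 := by omega
    have h2 : s ^ p.natDegree = s ^ (p.natDegree - i) * s ^ (i - 1) * s := by
      conv_lhs => rw [h1]
      rw [pow_succ, pow_add]
    rw [h2, mul_pow]
    ring

end Scale

end Groth.Agent.H8.EtRetr

namespace Groth.Agent.H8.EtRetr

open Polynomial

section LiftLoc

variable {A : Type*} [CommRing A] (M : Submonoid A) {R : Type*} [CommRing R] [Algebra A R]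
  [IsLocalization M R]

/-- a common denominator for finitely many elements: scaling by it gives integers -/
theorem exists_scaleRoots_mem_lifts (F : R[X]) (hF : F.Monic) (T : Finset R) :
    ∃ s : M, (∀ x ∈ T, ∃ b : A, algebraMap A R b = algebraMap A R s * x) ∧
      ∃ G : A[X], G.Monic ∧ G.map (algebraMap A R) = scaleRoots F (algebraMap A R s) := by
  classical
  obtain ⟨s, hs⟩ := IsLocalization.exist_integer_multiples_of_finset M
    (T ∪ F.support.image F.coeff)
  refine ⟨s, ?_, ?_⟩
  · intro x hx
    obtain ⟨b, hb⟩ := hs x (Finset.mem_union_left _ hx)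
    exact ⟨b, by rw [hb, Algebra.smul_def]⟩
  · have hlift : scaleRoots F (algebraMap A R s) ∈ lifts (algebraMap A R) := by
      rw [lifts_iff_coeff_lifts]
      intro n
      rw [coeff_scaleRoots]
      by_cases h₁ : n ∈ F.support
      · by_cases h₂ : n = F.natDegree
        · rw [h₂, coeff_natDegree, hF.leadingCoeff, tsub_self, pow_zero, mul_one]
          exact ⟨1, map_one _⟩
        · have hlt : n + 1 ≤ F.natDegree :=
            lt_of_le_of_ne (le_natDegree_of_mem_supp _ h₁) h₂
          obtain ⟨b, hb⟩ := hs (F.coeff n)
            (Finset.mem_union_right _ (Finset.mem_image_of_mem _ h₁))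
          have h3 : F.natDegree - n = (F.natDegree - n - 1) + 1 := by omega
          rw [h3, pow_succ]
          refine ⟨b * (s : A) ^ (F.natDegree - n - 1), ?_⟩
          rw [map_mul, map_pow, hb, Algebra.smul_def]
          ring
      · rw [notMem_support_iff] at h₁
        rw [h₁, zero_mul]
        exact ⟨0, map_zero _⟩
    obtain ⟨G, hG1, -, hG2⟩ := lifts_and_natDegree_eq_and_monic hlift
      ((monic_scaleRoots_iff _).mpr hF)
    exact ⟨G, hG2, hG1⟩

end LiftLoc

end Groth.Agent.H8.EtRetr
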