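import Mathlib
import Groth.Prelude.Def_ProEtW
import Groth.Agent.Lib.Helper8.EtRetr.Cover
import Groth.Agent.Lib.Helper8.EtRetr.Scale

set_option autoImplicit false
universe u

namespace Groth.Agent.H8.EtRetr

open ProEtW Polynomial

section Cover

/-- an étale algebra is covered by finitely many standard étale localizations -/
theorem exists_finset_standardEtale (R C : Type u) [CommRing R] [CommRing C] [Algebra R C]
    [Algebra.Etale R C] :
    ∃ T : Finset C, Ideal.span (T : Set C) = ⊤ ∧
      ∀ t ∈ T, Algebra.IsStandardEtale R (Localization.Away t) := by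
  set S₀ : Set C := {t | Algebra.IsStandardEtale R (Localization.Away t)} with hS₀
  have hspan : Ideal.span S₀ = ⊤ := by
    by_contra hne
    obtain ⟨Q, hQ, hle⟩ := Ideal.exists_le_maximal _ hne
    haveI := hQ.isPrime
    haveI : Algebra.IsEtaleAt R Q := by
      haveI : Algebra.FormallyEtale C (Localization.AtPrime Q) :=
        Algebra.FormallyEtale.of_isLocalization Q.primeCompl
      exact Algebra.FormallyEtale.comp R C (Localization.AtPrime Q)
    obtain ⟨f, hfQ, hf⟩ := Algebra.IsEtaleAt.exists_isStandardEtale (R := R) Q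
    exact hfQ (hle (Ideal.subset_span hf))
  obtain ⟨T, hT, hTspan⟩ := (Ideal.span_eq_top_iff_finite S₀).mp hspan
  exact ⟨T, hTspan, fun t ht => hT ht⟩

end Cover

end Groth.Agent.H8.EtRetr

namespace Groth.Agent.H8.EtRetr

open ProEtW Polynomial

/-- `Pt` lifts `Pb` along `A → R`, up to scaling the variable by a unit `σ` of `R`. -/
def LiftsPair (A R : Type u) [CommRing A] [CommRing R] [Algebra A R]
    (Pb : StandardEtalePair R) (Pt : StandardEtalePair A) : Prop :=
  ∃ σ τ : R, τ * σ = 1 ∧ ∀ (S : Type u) [CommRing S] [Algebra R S] [Algebra A S]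
    [IsScalarTower A R S] (x : S),
    (Pb.HasMap x → Pt.HasMap (σ • x)) ∧ (Pt.HasMap x → Pb.HasMap (τ • x))

section Points

variable {A R C : Type u} [CommRing A] [CommRing R] [CommRing C] [Algebra A R] [Algebra R C]

/-- a point of a standard étale localization of `C` gives a prime of the lifted standard étale
algebra over the corresponding prime of `A` -/
theorem mem_range_of_prime (t : C) (Q : StandardEtalePresentation R (Localization.Away t))
    (Pt : StandardEtalePair A) (hlift : LiftsPair A R Q.P Pt)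
    (c : PrimeSpectrum C) (htc : t ∉ c.asIdeal) :
    PrimeSpectrum.comap (algebraMap A R) (PrimeSpectrum.comap (algebraMap R C) c) ∈
      Set.range (PrimeSpectrum.comap (algebraMap A Pt.Ring)) := by
  obtain ⟨σ, τ, hτσ, hS⟩ := hlift
  -- the prime of the localization
  have hdisj : Disjoint (Submonoid.powers t : Set C) (c.asIdeal : Set C) := by
    rw [Set.disjoint_left]
    rintro x ⟨n, rfl⟩ hx
    exact htc (c.isPrime.mem_of_pow_mem n hx)
  set c' : Ideal (Localization.Away t) := Ideal.map (algebraMap C (Localization.Away t)) c.asIdeal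
    with hc'
  haveI hc'p : c'.IsPrime :=
    IsLocalization.isPrime_of_isPrime_disjoint (Submonoid.powers t) _ _ c.isPrime hdisj
  have hcc' : c'.comap (algebraMap C (Localization.Away t)) = c.asIdeal :=
    IsLocalization.under_map_of_isPrime_disjoint (Submonoid.powers t) _ c.isPrime hdisj
  let L := c'.ResidueField
  letI : Algebra R L := ((algebraMap (Localization.Away t) L).comp
    (algebraMap R (Localization.Away t))).toAlgebra
  letI : Algebra A L := ((algebraMap R L).comp (algebraMap A R)).toAlgebra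
  haveI : IsScalarTower A R L := IsScalarTower.of_algebraMap_eq (fun _ => rfl)
  haveI : IsScalarTower R (Localization.Away t) L := IsScalarTower.of_algebraMap_eq (fun _ => rfl)
  have hx : Q.P.HasMap (algebraMap (Localization.Away t) L Q.x) :=
    Q.hasMap.map (IsScalarTower.toAlgHom R (Localization.Away t) L)
  have hx' := (hS L _).1 hx
  let ψ : Pt.Ring →ₐ[A] L := Pt.lift _ hx'
  refine ⟨⟨RingHom.ker ψ, RingHom.ker_isPrime _⟩, ?_⟩
  ext1
  ext a
  show a ∈ Ideal.comap (algebraMap A Pt.Ring) (RingHom.ker ψ) ↔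
    a ∈ Ideal.comap (algebraMap A R) (Ideal.comap (algebraMap R C) c.asIdeal)
  rw [Ideal.mem_comap, RingHom.mem_ker, AlgHom.commutes, Ideal.mem_comap, Ideal.mem_comap, ← hcc',
    Ideal.mem_comap, ← Ideal.algebraMap_residueField_eq_zero (I := c')]
  show algebraMap (Localization.Away t) L (algebraMap R (Localization.Away t) (algebraMap A R a)) = 0 ↔ _
  rw [IsScalarTower.algebraMap_apply R C (Localization.Away t)]

end Points

end Groth.Agent.H8.EtRetr

namespace Groth.Agent.H8.EtRetr

open ProEtW Polynomial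

section Main

variable (A R : Type u) [CommRing A] [CommRing R] [Algebra A R]

theorem hasEtaleRetractions_of_lifts (h : HasEtaleRetractions A)
    (H1 : ∀ Pb : StandardEtalePair R, ∃ Pt : StandardEtalePair A, LiftsPair A R Pb Pt)
    (H2 : ∀ U : Set (PrimeSpectrum A), IsOpen U →
      Set.range (PrimeSpectrum.comap (algebraMap A R)) ⊆ U →
      ∃ f : A, (∀ p : PrimeSpectrum A, f ∉ p.asIdeal ∨ p ∈ U) ∧
        ∀ ε u : A, IsIdempotentElem ε → f * u = 1 - ε → algebraMap A R ε = 1) :
    HasEtaleRetractions R := by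
  classical
  intro C _ _ hff het
  obtain ⟨T, hTspan, hTstd⟩ := exists_finset_standardEtale R C
  -- presentations
  have hpres : ∀ t : T, Nonempty (StandardEtalePresentation R (Localization.Away t.1)) :=
    fun t => (hTstd t.1 t.2).nonempty_standardEtalePresentation
  choose Q hQ using fun t : T => (⟨(hpres t).some, trivial⟩ :
    ∃ _ : StandardEtalePresentation R (Localization.Away t.1), True)
  choose Pt hPt using fun t : T => H1 (Q t).P
  -- the étale `A`-algebra
  let B := ∀ t : T, (Pt t).Ring
  have hU : IsOpen (Set.range (PrimeSpectrum.comap (algebraMap A B))) :=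
    isOpen_range_comap_of_etale A B
  have hsub : Set.range (PrimeSpectrum.comap (algebraMap A R)) ⊆
      Set.range (PrimeSpectrum.comap (algebraMap A B)) := by
    rintro _ ⟨r, rfl⟩
    obtain ⟨c, rfl⟩ := PrimeSpectrum.comap_surjective_of_faithfullyFlat (A := R) (B := C) r
    obtain ⟨t, htT, htc⟩ : ∃ t ∈ T, t ∉ c.asIdeal := by
      by_contra hall
      push Not at hall
      have : Ideal.span (T : Set C) ≤ c.asIdeal := Ideal.span_le.mpr (fun t ht => hall t ht)
      rw [hTspan] at this
      exact c.isPrime.ne_top (top_le_iff.mp this)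
    obtain ⟨q, hq⟩ := mem_range_of_prime t (Q ⟨t, htT⟩) (Pt ⟨t, htT⟩) (hPt ⟨t, htT⟩) c htc
    refine ⟨PrimeSpectrum.comap (Pi.evalRingHom (fun t : T => (Pt t).Ring) ⟨t, htT⟩) q, ?_⟩
    rw [← hq]
    ext1
    ext a
    simp only [PrimeSpectrum.comap_asIdeal, Ideal.mem_comap]
    rfl
  obtain ⟨f, hfcov, hfε⟩ := H2 _ hU hsub
  obtain ⟨ε, u, g₀, hε, hg1, hgmul, hfu⟩ := exists_idempotent_of_cover A B h f hfcov
  have hε1 : algebraMap A R ε = 1 := hfε ε u hε hfu
  -- the algebra map `B → R`
  let φ : B →ₐ[A] R :=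
    { toFun := fun b => algebraMap A R (g₀ b)
      map_one' := by rw [hg1, hε1]
      map_mul' := fun x y => by rw [hgmul, map_mul]
      map_zero' := by rw [map_zero, map_zero]
      map_add' := fun x y => by rw [map_add, map_add]
      commutes' := fun a => by
        show algebraMap A R (g₀ (algebraMap A B a)) = _
        rw [Algebra.algebraMap_eq_smul_one a, map_smul, hg1, smul_eq_mul, map_mul, hε1,
          mul_one] }
  -- idempotents
  let e : T → R := fun t => φ (Pi.single t 1)
  have he : CompleteOrthogonalIdempotents e :=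
    (CompleteOrthogonalIdempotents.single (fun t : T => (Pt t).Ring)).map φ.toRingHom
  -- the maps to the factors
  have hmk1 : ∀ t : T, Ideal.Quotient.mk (Ideal.span {1 - e t}) (e t) = 1 := by
    intro t
    have : Ideal.Quotient.mk (Ideal.span {1 - e t}) (1 - e t) = 0 :=
      Ideal.Quotient.eq_zero_iff_mem.mpr (Ideal.subset_span rfl)
    rw [map_sub, map_one, sub_eq_zero] at this
    exact this.symm
  let φt : ∀ t : T, (Pt t).Ring →ₐ[A] R ⧸ Ideal.span {1 - e t} := fun t =>
    { toFun := fun b => Ideal.Quotient.mk _ (φ (Pi.single t b))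
      map_one' := hmk1 t
      map_mul' := fun x y => by rw [Pi.single_mul, map_mul, map_mul]
      map_zero' := by rw [Pi.single_zero, map_zero, map_zero]
      map_add' := fun x y => by rw [Pi.single_add, map_add, map_add]
      commutes' := fun a => by
        show Ideal.Quotient.mk _ (φ (Pi.single t (algebraMap A (Pt t).Ring a))) = _
        rw [Algebra.algebraMap_eq_smul_one a, Pi.single_smul, map_smul]
        show Ideal.Quotient.mk _ (a • e t) = _
        rw [Algebra.smul_def, map_mul, hmk1, mul_one]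
        rfl }
  have hρ : ∀ t : T, Nonempty (C →ₐ[R] R ⧸ Ideal.span {1 - e t}) := by
    intro t
    obtain ⟨σ, τ, hτσ, hS⟩ := hPt t
    have h1 : (Pt t).HasMap (φt t (Pt t).X) := StandardEtalePair.hasMap_X.map (φt t)
    have h2 := (hS (R ⧸ Ideal.span {1 - e t}) _).2 h1
    let θ : (Q t).P.Ring →ₐ[R] R ⧸ Ideal.span {1 - e t} := (Q t).P.lift _ h2
    exact ⟨(θ.comp (Q t).equivRing.toAlgHom).comp
      (IsScalarTower.toAlgHom R C (Localization.Away t.1))⟩
  choose ρt _ using fun t : T => (⟨(hρ t).some, trivial⟩ :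
    ∃ _ : C →ₐ[R] R ⧸ Ideal.span {1 - e t}, True)
  let Ψ₀ : R →ₐ[R] ∀ t : T, R ⧸ Ideal.span {1 - e t} :=
    AlgHom.pi (fun t => Ideal.Quotient.mkₐ R (Ideal.span {1 - e t}))
  have hΨ : Function.Bijective Ψ₀ := he.bijective_pi
  let Ψ : R ≃ₐ[R] ∀ t : T, R ⧸ Ideal.span {1 - e t} := AlgEquiv.ofBijective Ψ₀ hΨ
  exact ⟨Ψ.symm.toAlgHom.comp (AlgHom.pi ρt)⟩

end Main

end Groth.Agent.H8.EtRetr
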