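import Mathlib
import Groth.Prelude.Def_ProEtW
import Groth.Agent.Lib.Helper8.EtRetr.Cover
import Groth.Agent.Lib.Helper8.EtRetr.Scale

set_option autoImplicit false
universe u

namespace Groth.Agent.H8.EtRetr

open ProEtW Polynomial IsLocalRing

section Pt

variable (A : Type u) [CommRing A] (h : HasEtaleRetractions A) (m : Ideal A) [hm : m.IsMaximal]

include h in
/-- a point of a standard étale algebra in a field over `m` lifts to the local ring `A_m` -/
theorem exists_hasMap_localization (P : StandardEtalePair A) (L : Type u) [Field L] [Algebra A L]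
    (hker : RingHom.ker (algebraMap A L) = m) (x : L) (hx : P.HasMap x) :
    ∃ y : Localization.AtPrime m, P.HasMap y := by
  let ψ : P.Ring →ₐ[A] L := P.lift x hx
  have hpt : (⟨m, hm.isPrime⟩ : PrimeSpectrum A) ∈
      Set.range (PrimeSpectrum.comap (algebraMap A P.Ring)) := by
    refine ⟨⟨RingHom.ker ψ, RingHom.ker_isPrime _⟩, ?_⟩
    ext1
    show Ideal.comap (algebraMap A P.Ring) (RingHom.ker ψ) = m
    rw [← hker]
    ext a
    rw [Ideal.mem_comap, RingHom.mem_ker, RingHom.mem_ker, AlgHom.commutes]
  obtain ⟨φ⟩ := exists_algHom_localization A P.Ring h m hpt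
  exact ⟨φ P.X, StandardEtalePair.hasMap_X.map φ⟩

end Pt

end Groth.Agent.H8.EtRetr

namespace Groth.Agent.H8.EtRetr

open ProEtW Polynomial IsLocalRing

section HensA

variable (A : Type u) [CommRing A] (h : HasEtaleRetractions A) (m : Ideal A) [hm : m.IsMaximal]

theorem ker_algebraMap_residueField :
    RingHom.ker (algebraMap A (ResidueField (Localization.AtPrime m))) = m := by
  ext a
  rw [RingHom.mem_ker, IsScalarTower.algebraMap_apply A (Localization.AtPrime m)
    (ResidueField (Localization.AtPrime m))]
  show residue _ (algebraMap A (Localization.AtPrime m) a) = 0 ↔ _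
  rw [residue_eq_zero_iff]
  exact IsLocalization.AtPrime.to_map_mem_maximal_iff (Localization.AtPrime m) m a

include h in
/-- Hensel's lemma in `A_m` for polynomials and approximate roots defined over `A` -/
theorem exists_root_of_simple_root (g : A[X]) (hg : g.Monic) (b : A) (hb : eval b g ∈ m)
    (hb' : eval b (derivative g) ∉ m) :
    ∃ y : Localization.AtPrime m, aeval y g = 0 ∧
      y - algebraMap A (Localization.AtPrime m) b ∈ maximalIdeal (Localization.AtPrime m) := by
  set R := Localization.AtPrime m
  set κ := ResidueField R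
  -- division by `X - b`
  set h₀ := g /ₘ (X - C b) with hh₀
  have hdiv : g = (X - C b) * h₀ + C (eval b g) := by
    have := modByMonic_add_div g (X - C b)
    rw [modByMonic_X_sub_C_eq_C_eval] at this
    rw [hh₀]
    conv_lhs => rw [← this]
    ring
  have hder : eval b (derivative g) = eval b h₀ := by
    conv_lhs => rw [hdiv]
    simp
  let P : StandardEtalePair A :=
    { f := g
      monic_f := hg
      g := derivative g * h₀
      cond := ⟨h₀, 0, 1, by ring⟩ }
  have hker := ker_algebraMap_residueField A m
  have hmem : ∀ a : A, algebraMap A κ a = 0 ↔ a ∈ m := fun a => by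
    rw [← RingHom.mem_ker, hker]
  have hx : P.HasMap (algebraMap A κ b) := by
    constructor
    · show aeval (algebraMap A κ b) g = 0
      rw [aeval_algebraMap_apply, hmem, coe_aeval_eq_eval]
      exact hb
    · show IsUnit (aeval (algebraMap A κ b) (derivative g * h₀))
      rw [aeval_algebraMap_apply, isUnit_iff_ne_zero, Ne, hmem, coe_aeval_eq_eval, eval_mul,
        ← hder]
      exact fun h2 => hb' (hm.isPrime.mem_of_pow_mem 2 (by rw [pow_two]; exact h2))
  obtain ⟨y, hy⟩ := exists_hasMap_localization A h m P κ hker _ hx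
  refine ⟨y, hy.1, ?_⟩
  have hunit : IsUnit (aeval y h₀) := by
    have h2 : IsUnit (aeval y (derivative g * h₀)) := hy.2
    rw [map_mul] at h2
    exact isUnit_of_mul_isUnit_right h2
  have h3 : (y - algebraMap A R b) * aeval y h₀ = - algebraMap A R (eval b g) := by
    have h4 : aeval y g = 0 := hy.1
    rw [hdiv] at h4
    simp only [map_add, map_mul, map_sub, aeval_X, aeval_C] at h4
    linear_combination h4
  have h5 : (y - algebraMap A R b) * aeval y h₀ ∈ maximalIdeal R := by
    rw [h3]
    exact (maximalIdeal R).neg_mem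
      ((IsLocalization.AtPrime.to_map_mem_maximal_iff R m _).mpr hb)
  rcases (Ideal.IsPrime.mem_or_mem inferInstance h5) with h6 | h6
  · exact h6
  · exact absurd hunit ((mem_maximalIdeal _).mp h6)

end HensA

end Groth.Agent.H8.EtRetr

namespace Groth.Agent.H8.EtRetr

open ProEtW Polynomial IsLocalRing

section Main

variable (A : Type u) [CommRing A] (h : HasEtaleRetractions A) (m : Ideal A) [hm : m.IsMaximal]

include h in
theorem henselianLocalRing_localization : HenselianLocalRing (Localization.AtPrime m) := by
  set R := Localization.AtPrime m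
  refine { is_henselian := ?_ }
  intro F hF a₀ ha₀ ha₀'
  classical
  obtain ⟨s, hT, G, hG, hGF⟩ := exists_scaleRoots_mem_lifts m.primeCompl F hF {a₀}
  obtain ⟨b, hb⟩ := hT a₀ (Finset.mem_singleton_self _)
  set σ := algebraMap A R s with hσ
  have hσu : IsUnit σ := IsLocalization.map_units R s
  -- evaluate
  have h1 : algebraMap A R (eval b G) = σ ^ F.natDegree * eval a₀ F := by
    rw [← scaleRoots_eval_mul, ← hGF, ← hb, eval_map_algebraMap, aeval_algebraMap_apply,
      coe_aeval_eq_eval]
  have h2 : algebraMap A R (eval b (derivative G)) * σ = σ ^ F.natDegree * eval a₀ (derivative F) := by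
    rw [← eval_derivative_scaleRoots, ← hGF, ← hb, derivative_map, eval_map_algebraMap,
      aeval_algebraMap_apply, coe_aeval_eq_eval]
  have hbm : eval b G ∈ m := by
    rw [← IsLocalization.AtPrime.to_map_mem_maximal_iff R m, h1]
    exact Ideal.mul_mem_left _ _ ha₀
  have hbm' : eval b (derivative G) ∉ m := by
    rw [← IsLocalization.AtPrime.to_map_mem_maximal_iff R m, mem_maximalIdeal, mem_nonunits_iff,
      not_not]
    have : IsUnit (algebraMap A R (eval b (derivative G)) * σ) := by
      rw [h2]; exact (hσu.pow _).mul ha₀'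
    exact isUnit_of_mul_isUnit_left this
  obtain ⟨y, hy, hyb⟩ := exists_root_of_simple_root A h m G hG b hbm hbm'
  obtain ⟨τ, hτ⟩ := hσu.exists_left_inv
  -- τ * σ = 1
  refine ⟨τ * y, ?_, ?_⟩
  · have h3 : eval (σ * (τ * y)) (scaleRoots F σ) = σ ^ F.natDegree * eval (τ * y) F :=
      scaleRoots_eval_mul _ _ _
    have h4 : σ * (τ * y) = y := by rw [← mul_assoc, mul_comm σ τ, hτ, one_mul]
    rw [h4, ← hGF, eval_map_algebraMap, hy] at h3
    show eval (τ * y) F = 0
    exact ((hσu.pow _).mul_right_eq_zero).mp h3.symm
  · have h5 : τ * y - a₀ = τ * (y - algebraMap A R b) := by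
      rw [hb, mul_sub, ← mul_assoc, hτ, one_mul]
    rw [h5]
    exact Ideal.mul_mem_left _ _ hyb

end Main

end Groth.Agent.H8.EtRetr

namespace Groth.Agent.H8.EtRetr

open ProEtW Polynomial IsLocalRing

section Sep

variable (A : Type u) [CommRing A] (h : HasEtaleRetractions A) (m : Ideal A) [hm : m.IsMaximal]

theorem surjective_algebraMap_residueField :
    Function.Surjective (algebraMap A (ResidueField (Localization.AtPrime m))) := by
  intro z
  obtain ⟨w, rfl⟩ :=
    (IsLocalization.AtPrime.equivQuotMaximalIdeal m (Localization.AtPrime m)).surjective z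
  obtain ⟨a, rfl⟩ := Ideal.Quotient.mk_surjective w
  refine ⟨a, ?_⟩
  rw [IsLocalization.AtPrime.equivQuotMaximalIdeal_apply_mk,
    IsScalarTower.algebraMap_apply A (Localization.AtPrime m)
      (ResidueField (Localization.AtPrime m))]
  rfl

include h in
theorem isSepClosed_residueField :
    IsSepClosed (ResidueField (Localization.AtPrime m)) := by
  set R := Localization.AtPrime m
  set κ := ResidueField R
  apply IsSepClosed.of_exists_root
  intro p hp hirr hsep
  -- lift `p` to a monic polynomial over `A`
  have hsurj := surjective_algebraMap_residueField A m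
  have hlift : p ∈ lifts (algebraMap A κ) := by
    rw [lifts_iff_coeff_lifts]
    intro n
    exact hsurj _
  obtain ⟨g, hg1, -, hg2⟩ := lifts_and_natDegree_eq_and_monic hlift hp
  let P : StandardEtalePair A :=
    { f := g
      monic_f := hg2
      g := derivative g
      cond := ⟨1, 0, 1, by ring⟩ }
  haveI : Fact (Irreducible p) := ⟨hirr⟩
  let L := AdjoinRoot p
  have hker : RingHom.ker (algebraMap A L) = m := by
    have h0 : ∀ a : A, algebraMap A κ a = 0 ↔ a ∈ m := fun a => by
      rw [← RingHom.mem_ker, ker_algebraMap_residueField A m]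
    ext a
    rw [RingHom.mem_ker, IsScalarTower.algebraMap_apply A κ L,
      map_eq_zero_iff _ (algebraMap κ L).injective]
    exact h0 a
  have haev : ∀ q : A[X], aeval (AdjoinRoot.root p) q =
      aeval (AdjoinRoot.root p) (q.map (algebraMap A κ)) := fun q => by
    rw [aeval_map_algebraMap]
  have hx : P.HasMap (AdjoinRoot.root p) := by
    constructor
    · show aeval (AdjoinRoot.root p) g = 0
      rw [haev, hg1, AdjoinRoot.aeval_eq, AdjoinRoot.mk_self]
    · show IsUnit (aeval (AdjoinRoot.root p) (derivative g))
      rw [haev, ← derivative_map, hg1]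
      obtain ⟨a, b, hab⟩ := hsep
      have := congrArg (aeval (AdjoinRoot.root p)) hab
      rw [map_add, map_mul, map_mul, AdjoinRoot.aeval_eq p, AdjoinRoot.mk_self, mul_zero,
        zero_add, map_one] at this
      exact IsUnit.of_mul_eq_one _ (by rw [mul_comm]; exact this)
  obtain ⟨y, hy⟩ := exists_hasMap_localization A h m P L hker _ hx
  refine ⟨residue R y, ?_⟩
  have h1 : aeval y g = 0 := hy.1
  have h2 := congrArg (residue R) h1
  rw [map_zero] at h2
  rw [← hg1, eval_map_algebraMap]
  rw [← h2]
  exact (aeval_algHom_apply (IsScalarTower.toAlgHom A R κ) y g)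

end Sep

/-- **S0675** -/
theorem isStrictlyHenselian_localization (A : Type u) [CommRing A] (h : HasEtaleRetractions A)
    (m : Ideal A) [m.IsMaximal] :
    EtCoh.IsStrictlyHenselianLocalRing (Localization.AtPrime m) :=
  ⟨henselianLocalRing_localization A h m, isSepClosed_residueField A h m⟩

end Groth.Agent.H8.EtRetr
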