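import Mathlib
import Groth.Prelude.Def_ProEtW
import Groth.Agent.Lib.Helper8.EtRetr.Descend

set_option autoImplicit false
universe u

namespace Groth.Agent.H8.EtRetr

open ProEtW Polynomial

section ScaleAeval

variable {B Ω : Type*} [CommRing B] [CommRing Ω] [Algebra B Ω]

theorem aeval_scaleRoots_smul (p : B[X]) (σ : B) (x : Ω) :
    aeval (σ • x) (scaleRoots p σ) = algebraMap B Ω σ ^ p.natDegree * aeval x p := by
  rw [Algebra.smul_def, aeval_def, scaleRoots_eval₂_mul, aeval_def]

theorem aeval_derivative_scaleRoots_smul (p : B[X]) (hp : p.Monic) (σ : B) (x : Ω) :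
    aeval (σ • x) (derivative (scaleRoots p σ)) * algebraMap B Ω σ =
      algebraMap B Ω σ ^ p.natDegree * aeval x (derivative p) := by
  rcases subsingleton_or_nontrivial Ω with hΩ | hΩ
  · exact Subsingleton.elim _ _
  · have h1 : (scaleRoots p σ).map (algebraMap B Ω) =
        scaleRoots (p.map (algebraMap B Ω)) (algebraMap B Ω σ) :=
      map_scaleRoots p σ _ (by rw [hp.leadingCoeff, map_one]; exact one_ne_zero)
    have h2 := eval_derivative_scaleRoots (p.map (algebraMap B Ω)) x (algebraMap B Ω σ)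
    rw [← h1, derivative_map, derivative_map, eval_map_algebraMap, eval_map_algebraMap,
      hp.natDegree_map] at h2
    rw [Algebra.smul_def]
    exact h2

end ScaleAeval

end Groth.Agent.H8.EtRetr

namespace Groth.Agent.H8.EtRetr

open ProEtW Polynomial

section Loc

variable (A B : Type u) [CommRing A] [CommRing B] [Algebra A B] (M : Submonoid A)
  [IsLocalization M B]

include M in
theorem exists_liftsPair_localization (Pb : StandardEtalePair B) :
    ∃ Pt : StandardEtalePair A, LiftsPair A B Pb Pt := by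
  classical
  obtain ⟨s, hT, F, hF, hFmap⟩ := exists_scaleRoots_mem_lifts M Pb.f Pb.monic_f
    (Pb.g.support.image Pb.g.coeff)
  set σ : B := algebraMap A B s with hσ
  have hσu : IsUnit σ := IsLocalization.map_units B s
  obtain ⟨τ, hτ⟩ := hσu.exists_left_inv
  -- lift of the scaled `g`
  have hGlift : C σ * scaleRoots Pb.g σ ∈ lifts (algebraMap A B) := by
    rw [lifts_iff_coeff_lifts]
    intro n
    rw [coeff_C_mul, coeff_scaleRoots]
    by_cases h₁ : n ∈ Pb.g.support
    · obtain ⟨b, hb⟩ := hT _ (Finset.mem_image_of_mem _ h₁)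
      refine ⟨b * (s : A) ^ (Pb.g.natDegree - n), ?_⟩
      rw [map_mul, map_pow, hb]
      ring
    · rw [notMem_support_iff] at h₁
      rw [h₁, zero_mul, mul_zero]
      exact ⟨0, map_zero _⟩
  obtain ⟨G, hG⟩ := hGlift
  refine ⟨{ f := F, monic_f := hF, g := derivative F * G, cond := ⟨G, 0, 1, by ring⟩ },
    σ, τ, hτ, ?_⟩
  intro Ω _ _ _ _ x
  set σ' := algebraMap B Ω σ with hσ'
  have hσ'u : IsUnit σ' := hσu.map _
  have hae : ∀ (q : A[X]) (y : Ω), aeval y q = aeval y (q.map (algebraMap A B)) := fun q y => by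
    rw [aeval_map_algebraMap]
  have hG' : G.map (algebraMap A B) = C σ * scaleRoots Pb.g σ := hG
  -- key evaluations at `σ • x`
  have hF1 : ∀ y : Ω, aeval (σ • y) F = σ' ^ Pb.f.natDegree * aeval y Pb.f := fun y => by
    rw [hae, hFmap, aeval_scaleRoots_smul]
  have hF2 : ∀ y : Ω, aeval (σ • y) (derivative F) * σ' =
      σ' ^ Pb.f.natDegree * aeval y (derivative Pb.f) := fun y => by
    rw [hae, ← derivative_map, hFmap, aeval_derivative_scaleRoots_smul _ Pb.monic_f]
  have hG1 : ∀ y : Ω, aeval (σ • y) G = σ' * (σ' ^ Pb.g.natDegree * aeval y Pb.g) := fun y => by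
    rw [hae, hG', map_mul, aeval_C, aeval_scaleRoots_smul]
  constructor
  · intro hx
    refine ⟨?_, ?_⟩
    · show aeval (σ • x) F = 0
      rw [hF1, hx.1, mul_zero]
    · show IsUnit (aeval (σ • x) (derivative F * G))
      rw [map_mul]
      refine IsUnit.mul ?_ ?_
      · have h1 : IsUnit (aeval (σ • x) (derivative F) * σ') := by
          rw [hF2]; exact (hσ'u.pow _).mul hx.isUnit_derivative_f
        exact isUnit_of_mul_isUnit_left h1
      · rw [hG1]; exact hσ'u.mul ((hσ'u.pow _).mul hx.2)
  · intro hx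
    have hxy : σ • (τ • x) = x := by
      rw [smul_smul, mul_comm, hτ, one_smul]
    refine ⟨?_, ?_⟩
    · have h1 : aeval x F = 0 := hx.1
      rw [← hxy, hF1] at h1
      exact ((hσ'u.pow _).mul_right_eq_zero).mp h1
    · have h2 : IsUnit (aeval x (derivative F * G)) := hx.2
      rw [map_mul] at h2
      have h3 : IsUnit (aeval x G) := isUnit_of_mul_isUnit_right h2
      rw [← hxy, hG1] at h3
      exact isUnit_of_mul_isUnit_right (isUnit_of_mul_isUnit_right h3)

end Loc

end Groth.Agent.H8.EtRetr

namespace Groth.Agent.H8.EtRetr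

open ProEtW Polynomial

section LocMain

variable (A B : Type u) [CommRing A] [CommRing B] [Algebra A B] (M : Submonoid A)
  [IsLocalization M B]

include M in
theorem hasEtaleRetractions_localization_specializing (I : Ideal A)
    (hB : Set.range (PrimeSpectrum.comap (algebraMap A B)) =
      {x | ∃ z : PrimeSpectrum A, z ∈ PrimeSpectrum.zeroLocus (R := A) I ∧ x ⤳ z})
    (hA : HasEtaleRetractions A) : HasEtaleRetractions B := by
  apply hasEtaleRetractions_of_lifts A B hA (exists_liftsPair_localization A B M)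
  intro U hU hsub
  obtain ⟨J, hJ⟩ := (PrimeSpectrum.isClosed_iff_zeroLocus_ideal _).mp hU.isClosed_compl
  have hVI : PrimeSpectrum.zeroLocus (I : Set A) ⊆ U := by
    intro z hz
    apply hsub
    rw [hB]
    exact ⟨z, hz, specializes_rfl⟩
  have hIJ : I ⊔ J = ⊤ := by
    by_contra hne
    obtain ⟨p, hp, hle⟩ := Ideal.exists_le_maximal _ hne
    have h1 : (⟨p, hp.isPrime⟩ : PrimeSpectrum A) ∈ U := by
      apply hVI
      rw [PrimeSpectrum.mem_zeroLocus, SetLike.coe_subset_coe]
      exact le_sup_left.trans hle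
    have h2 : (⟨p, hp.isPrime⟩ : PrimeSpectrum A) ∈ Uᶜ := by
      rw [hJ, PrimeSpectrum.mem_zeroLocus, SetLike.coe_subset_coe]
      exact le_sup_right.trans hle
    exact h2 h1
  obtain ⟨f, hf, j, hj, hfj⟩ := Submodule.mem_sup.mp (hIJ ▸ (Submodule.mem_top : (1 : A) ∈ ⊤))
  refine ⟨f, ?_, ?_⟩
  · intro p
    by_cases hfp : f ∈ p.asIdeal
    · right
      by_contra hp
      have hpJ : p ∈ PrimeSpectrum.zeroLocus (J : Set A) := by rw [← hJ]; exact hp
      rw [PrimeSpectrum.mem_zeroLocus] at hpJ
      have : (1 : A) ∈ p.asIdeal := by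
        rw [← hfj]; exact p.asIdeal.add_mem hfp (hpJ hj)
      exact p.isPrime.ne_top ((Ideal.eq_top_iff_one _).mpr this)
    · exact Or.inl hfp
  · intro ε u hε hfu
    have hidem : IsIdempotentElem (algebraMap A B (1 - ε)) := hε.one_sub.map _
    have hnil : IsNilpotent (algebraMap A B (1 - ε)) := by
      rw [nilpotent_iff_mem_prime]
      intro q' hq'
      have hmem : PrimeSpectrum.comap (algebraMap A B) ⟨q', hq'⟩ ∈
          Set.range (PrimeSpectrum.comap (algebraMap A B)) := ⟨_, rfl⟩
      rw [hB] at hmem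
      obtain ⟨z, hz, hqz⟩ := hmem
      rw [← PrimeSpectrum.le_iff_specializes] at hqz
      rw [PrimeSpectrum.mem_zeroLocus] at hz
      have h1 : 1 - ε ∈ z.asIdeal := by
        rw [← hfu]; exact z.asIdeal.mul_mem_right _ (hz hf)
      have h2 : ε ∉ z.asIdeal := by
        intro h2
        have : (1 : A) ∈ z.asIdeal := by
          have := z.asIdeal.add_mem h1 h2
          rwa [sub_add_cancel] at this
        exact z.isPrime.ne_top ((Ideal.eq_top_iff_one _).mpr this)
      have h3 : ε ∉ q'.comap (algebraMap A B) := fun h3 => h2 (hqz h3)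
      have h4 : ε * (1 - ε) ∈ q'.comap (algebraMap A B) := by
        have : ε * (1 - ε) = 0 := by rw [mul_sub, mul_one, hε.eq, sub_self]
        rw [this]; exact Ideal.zero_mem _
      have hprime : (q'.comap (algebraMap A B)).IsPrime := Ideal.comap_isPrime _ _
      rcases hprime.mem_or_mem h4 with h5 | h5
      · exact absurd h5 h3
      · exact h5
    have h0 := hidem.eq_zero_of_isNilpotent hnil
    rw [map_sub, map_one, sub_eq_zero] at h0
    exact h0.symm

end LocMain

end Groth.Agent.H8.EtRetr
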