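import Mathlib
import Groth.Prelude.Def_ProEtW
import Groth.Agent.Lib.Helper8.EtRetr.Descend

set_option autoImplicit false
universe u

namespace Groth.Agent.H8.EtRetr

open ProEtW Polynomial

section Quot

variable (A : Type u) [CommRing A] (I : Ideal A)

theorem exists_liftsPair_quotient (Pb : StandardEtalePair (A ⧸ I)) :
    ∃ Pt : StandardEtalePair A, LiftsPair A (A ⧸ I) Pb Pt := by
  have hsurj : Function.Surjective (Ideal.Quotient.mk I) := Ideal.Quotient.mk_surjective
  have hf : Pb.f ∈ lifts (Ideal.Quotient.mk I) := by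
    rw [lifts_iff_coeff_lifts]; intro n; exact hsurj _
  obtain ⟨f, hf1, -, hf2⟩ := lifts_and_natDegree_eq_and_monic hf Pb.monic_f
  obtain ⟨g, hg⟩ := map_surjective (Ideal.Quotient.mk I) hsurj Pb.g
  refine ⟨{ f := f, monic_f := hf2, g := derivative f * g, cond := ⟨g, 0, 1, by ring⟩ },
    1, 1, one_mul 1, ?_⟩
  intro S _ _ _ _ x
  have hae : ∀ q : A[X], aeval x q = aeval x (q.map (Ideal.Quotient.mk I)) := fun q => by
    rw [← Ideal.Quotient.algebraMap_eq, aeval_map_algebraMap]
  rw [one_smul]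
  constructor
  · intro hx
    refine ⟨?_, ?_⟩
    · show aeval x f = 0
      rw [hae, hf1]; exact hx.1
    · show IsUnit (aeval x (derivative f * g))
      rw [hae, Polynomial.map_mul, ← derivative_map, hf1, hg, map_mul]
      exact hx.isUnit_derivative_f.mul hx.2
  · intro hx
    refine ⟨?_, ?_⟩
    · have h1 : aeval x f = 0 := hx.1
      rw [hae, hf1] at h1; exact h1
    · have h2 : IsUnit (aeval x (derivative f * g)) := hx.2
      rw [hae, Polynomial.map_mul, ← derivative_map, hf1, hg, map_mul] at h2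
      exact isUnit_of_mul_isUnit_right h2

theorem hasEtaleRetractions_quotient (h : HasEtaleRetractions A) :
    HasEtaleRetractions (A ⧸ I) := by
  apply hasEtaleRetractions_of_lifts A (A ⧸ I) h (exists_liftsPair_quotient A I)
  intro U hU hsub
  obtain ⟨J, hJ⟩ := (PrimeSpectrum.isClosed_iff_zeroLocus_ideal _).mp hU.isClosed_compl
  have hrange : Set.range (PrimeSpectrum.comap (algebraMap A (A ⧸ I))) =
      PrimeSpectrum.zeroLocus (I : Set A) := by
    rw [Ideal.Quotient.algebraMap_eq,
      _root_.range_comap_of_surjective _ _ Ideal.Quotient.mk_surjective, Ideal.mk_ker]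
  have hIJ : I ⊔ J = ⊤ := by
    by_contra hne
    obtain ⟨p, hp, hle⟩ := Ideal.exists_le_maximal _ hne
    have h1 : (⟨p, hp.isPrime⟩ : PrimeSpectrum A) ∈ U := by
      apply hsub
      rw [hrange, PrimeSpectrum.mem_zeroLocus, SetLike.coe_subset_coe]
      exact le_sup_left.trans hle
    have h2 : (⟨p, hp.isPrime⟩ : PrimeSpectrum A) ∈ Uᶜ := by
      rw [hJ, PrimeSpectrum.mem_zeroLocus, SetLike.coe_subset_coe]
      exact le_sup_right.trans hle
    exact h2 h1
  obtain ⟨f, hf, j, hj, hfj⟩ := Submodule.mem_sup.mp (hIJ ▸ (Submodule.mem_top : (1 : A) ∈ ⊤))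
  refine ⟨f, ?_, ?_⟩
  · intro p
    by_cases hfp : f ∈ p.asIdeal
    · right
      by_contra hp
      have hpJ : p ∈ PrimeSpectrum.zeroLocus (J : Set A) := by rw [← hJ]; exact hp
      rw [PrimeSpectrum.mem_zeroLocus] at hpJ
      have : (1 : A) ∈ p.asIdeal := by
        rw [← hfj]; exact p.asIdeal.add_mem hfp (hpJ hj)
      exact p.isPrime.ne_top ((Ideal.eq_top_iff_one _).mpr this)
    · exact Or.inl hfp
  · intro ε u hε hfu
    rw [Ideal.Quotient.algebraMap_eq]
    have h1 : Ideal.Quotient.mk I (1 - ε) = 0 := by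
      rw [← hfu, Ideal.Quotient.eq_zero_iff_mem]
      exact I.mul_mem_right _ hf
    rw [map_sub, map_one, sub_eq_zero] at h1
    exact h1.symm

end Quot

end Groth.Agent.H8.EtRetr
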